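import Cfsg.Agent.GroupStructure3.HSOut.Main
import Cfsg.Agent.Lib.PcMult.Trivial
import Cfsg.Agent.Lib.HSMult.Data

/-!
The Higman-Sims group as the even automorphisms of a graph on `Fin 100`, with a computable
criterion for membership and evaluation of words.
-/

set_option autoImplicit false
set_option maxRecDepth 100000

namespace Cfsg.Agent.Lib.HSMult

open Cfsg Cfsg.Agent.GroupStructure3 Cfsg.Agent.LeechAut Cfsg.Agent.Lib.PcMult

open scoped commutatorElement

/-- The `i`th entry of a packed list of numbers below 128. -/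
def app (N : ℕ) (i : Fin 100) : Fin 100 := ⟨(N >>> (7 * i.1)) % 128 % 100, Nat.mod_lt _ (by norm_num)⟩

/-- A product of transpositions as a function. -/
def swApp (sw : List (ℕ × ℕ)) (i : ℕ) : ℕ :=
  sw.foldr (fun ab x => if x = ab.1 then ab.2 else if x = ab.2 then ab.1 else x) i

/-- Adjacency through the masks. -/
def adjF (i j : Fin 100) : Bool := (Data.masks.getD i.1 0).testBit j.1

/-- A vertex and its number. -/
def vertF : Fin 100 ≃ HSAut.W where
  toFun i := HSAut.vert i.1
  invFun w := ⟨HSAut.code w % 100, Nat.mod_lt _ (by norm_num)⟩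
  left_inv := by decide +kernel
  right_inv := by decide +kernel

theorem adjF_eq : ∀ i j : Fin 100, adjF i j = HSAut.adjB (vertF i) (vertF j) := by decide +kernel

theorem nbs_eq : ∀ i : Fin 100, (∀ v ∈ Data.nbs.getD i.1 [], v < 100 ∧ (Data.masks.getD i.1 0).testBit v = true) ∧
    ((Data.nbs.getD i.1 []).foldr (fun v a => a ||| 1 <<< v) 0) = Data.masks.getD i.1 0 := by
  decide +kernel

/-- The automorphisms as a subgroup. -/
def autF : Subgroup (Equiv.Perm (Fin 100)) where
  carrier := {σ | ∀ i j, adjF (σ i) (σ j) = adjF i j}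
  one_mem' := fun _ _ => rfl
  mul_mem' := fun {a b} ha hb i j => (ha (b i) (b j)).trans (hb i j)
  inv_mem' := fun {a} ha i j => by
    have := ha (a⁻¹ i) (a⁻¹ j)
    simpa using this.symm

theorem mem_autF {σ : Equiv.Perm (Fin 100)} : σ ∈ autF ↔ ∀ i j, adjF (σ i) (σ j) = adjF i j := Iff.rfl

theorem foldr_testBit (f : ℕ → ℕ) (k : ℕ) : ∀ l : List ℕ,
    (l.foldr (fun v a => a ||| 1 <<< f v) 0).testBit k = true ↔ ∃ v ∈ l, f v = k
  | [] => by simp
  | v :: l => by
    rw [List.foldr_cons, Nat.testBit_or, Bool.or_eq_true, foldr_testBit f k l, Nat.shiftLeft_eq, one_mul,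
      Nat.testBit_two_pow, decide_eq_true_eq]
    simp only [List.mem_cons, exists_eq_or_imp]
    exact or_comm

/-- Check that a packed permutation is the given product of transpositions and preserves the graph. -/
def autB (N : ℕ) (sw : List (ℕ × ℕ)) : Bool :=
  sw.all (fun ab => decide (ab.1 < 100 ∧ ab.2 < 100 ∧ ab.1 ≠ ab.2)) &&
  ((List.finRange 100).all fun i => decide ((app N i).1 = swApp sw i.1)) &&
  ((List.finRange 100).all fun i =>
    ((Data.nbs.getD i.1 []).foldr (fun v a => a ||| 1 <<< (swApp sw v)) 0) == Data.masks.getD (app N i).1 0)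

theorem exists_perm : ∀ sw : List (ℕ × ℕ), (∀ ab ∈ sw, ab.1 < 100 ∧ ab.2 < 100 ∧ ab.1 ≠ ab.2) →
    ∃ σ : Equiv.Perm (Fin 100), (∀ i, (σ i).1 = swApp sw i.1) ∧
      Equiv.Perm.sign σ = (-1) ^ sw.length
  | [], _ => ⟨1, fun _ => rfl, by simp⟩
  | ab :: sw, h => by
    obtain ⟨σ, h1, h2⟩ := exists_perm sw fun x hx => h x (List.mem_cons_of_mem _ hx)
    obtain ⟨ha, hb, hab⟩ := h ab (List.mem_cons_self ..)
    refine ⟨Equiv.swap ⟨ab.1, ha⟩ ⟨ab.2, hb⟩ * σ, fun i => ?_, ?_⟩
    · show (Equiv.swap _ _ (σ i)).1 = _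
      rw [swApp, List.foldr_cons, ← swApp, ← h1 i, Equiv.swap_apply_def]
      simp only [Fin.ext_iff]
      split_ifs <;> rfl
    · rw [map_mul, h2, Equiv.Perm.sign_swap (by simp [Fin.ext_iff, hab]), List.length_cons, pow_succ']

theorem of_autB {N : ℕ} {sw : List (ℕ × ℕ)} (h : autB N sw = true) :
    ∃ σ : Equiv.Perm (Fin 100), σ ∈ autF ∧ (∀ i, σ i = app N i) ∧ (∀ i, (σ i).1 = swApp sw i.1) ∧
      Equiv.Perm.sign σ = (-1) ^ sw.length := by
  simp only [autB, Bool.and_eq_true, List.all_eq_true, decide_eq_true_eq, beq_iff_eq] at h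
  obtain ⟨⟨h1, h2⟩, h3⟩ := h
  obtain ⟨σ, hσ, hs⟩ := exists_perm sw h1
  have happ : ∀ i, σ i = app N i := fun i => Fin.ext (by rw [hσ, h2 i (List.mem_finRange i)])
  refine ⟨σ, fun i j => ?_, happ, hσ, hs⟩
  rw [Bool.eq_iff_iff]
  show (Data.masks.getD (σ i).1 0).testBit (σ j).1 = true ↔ (Data.masks.getD i.1 0).testBit j.1 = true
  rw [happ i, ← h3 i (List.mem_finRange i), foldr_testBit]
  obtain ⟨hn, hm⟩ := nbs_eq i
  conv_rhs => rw [← hm, foldr_testBit]
  refine exists_congr fun v => and_congr_right fun hv => ?_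
  have := hσ ⟨v, (hn v hv).1⟩
  rw [← this, ← Fin.ext_iff, σ.injective.eq_iff, Fin.ext_iff]

theorem card_autF : Nat.card autF = 88704000 := by
  rw [← HSAut.model_card]
  let T : Fin 100 ≃ Option (Fin 22 ⊕ HSAut.M) := vertF.trans HSAut.toV
  have hT : ∀ i j, adjF i j = true ↔ (Cfsg.pointBlockGraph HSAut.M).Adj (T i) (T j) := fun i j => by
    rw [adjF_eq]; exact (HSAut.adj_iff _ _).symm
  refine Nat.card_congr
    { toFun := fun σ =>
        { toEquiv := (T.symm.trans σ.1).trans T
          map_rel_iff' := by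
            intro v w
            obtain ⟨i, rfl⟩ := T.surjective v
            obtain ⟨j, rfl⟩ := T.surjective w
            simp only [Equiv.trans_apply, Equiv.symm_apply_apply, ← hT]
            rw [mem_autF.1 σ.2] }
      invFun := fun u => ⟨(T.trans u.toEquiv).trans T.symm, fun i j => by
        rw [Bool.eq_iff_iff, hT, hT]
        simp only [Equiv.trans_apply, Equiv.apply_symm_apply]
        exact u.map_rel_iff⟩
      left_inv := fun σ => Subtype.ext (Equiv.ext fun i => by simp)
      right_inv := fun u => RelIso.ext fun v => by simp }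

theorem card_HS : Nat.card Spor.HS = 44352000 := by
  obtain ⟨E⟩ := HSOut.nonempty_equiv
  rw [Nat.card_congr E.toEquiv, HS.card_G]

theorem finite_HS : Finite Spor.HS := Nat.finite_of_card_ne_zero (by rw [card_HS]; norm_num)

theorem simple_HS : IsSimpleGroup Spor.HS := by
  obtain ⟨E⟩ := HSOut.nonempty_equiv
  exact E.isSimpleGroup_congr.2 HS.isSimple_G

theorem perfect_HS : commutator Spor.HS = ⊤ := by
  haveI := simple_HS
  rcases IsSimpleGroup.eq_bot_or_eq_top_of_normal (commutator Spor.HS) inferInstance with h | h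
  · exfalso
    have hcomm : ∀ a b : Spor.HS, a * b = b * a := fun a b => by
      have : ⁅a, b⁆ ∈ commutator Spor.HS := by
        rw [commutator_def]
        exact Subgroup.commutator_mem_commutator (Subgroup.mem_top a) (Subgroup.mem_top b)
      rw [h, Subgroup.mem_bot, commutatorElement_eq_one_iff_mul_comm] at this
      exact this
    letI : CommGroup Spor.HS := { (inferInstance : Group Spor.HS) with mul_comm := hcomm }
    haveI := finite_HS
    have := IsSimpleGroup.prime_card (α := Spor.HS)
    rw [card_HS] at this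
    exact Nat.not_prime_mul (a := 2) (b := 22176000) (by norm_num) (by norm_num) this
  · exact h

/-- A realisation: a faithful action whose image consists of the even automorphisms. -/
structure Real where
  φ : Spor.HS →* Equiv.Perm (Fin 100)
  inj : Function.Injective φ
  sign : ∀ g, Equiv.Perm.sign (φ g) = 1
  mem : ∀ σ ∈ autF, Equiv.Perm.sign σ = 1 → σ ∈ φ.range

theorem exists_real : Nonempty Real := by
  classical
  haveI := finite_HS
  obtain ⟨E⟩ := HSOut.nonempty_equiv
  obtain ⟨j⟩ := HSGraph.exists_iso (α := Fin 22) (by simp) HSAut.steiner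
  let T : Fin 100 ≃ HS.Y := (vertF.trans HSAut.toV).trans j.toEquiv
  let φ : Spor.HS →* Equiv.Perm (Fin 100) :=
    { toFun := fun g => (T.trans (HSGraph.toAut (E g)).toEquiv).trans T.symm
      map_one' := Equiv.ext fun i => by
        simp only [map_one, Equiv.trans_apply]
        exact T.symm_apply_apply i
      map_mul' := fun g h => Equiv.ext fun i => by
        simp only [map_mul, Equiv.trans_apply, Equiv.Perm.mul_apply, Equiv.apply_symm_apply]
        rfl }
  have hinj : Function.Injective φ := fun g h e => by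
    refine E.injective (HSGraph.toAut_injective (RelIso.ext fun y => ?_))
    have := DFunLike.congr_fun e (T.symm y)
    simpa [φ] using this
  have hsign : ∀ g, Equiv.Perm.sign (φ g) = 1 := by
    haveI := simple_HS
    rcases IsSimpleGroup.eq_bot_or_eq_top_of_normal (Equiv.Perm.sign.comp φ).ker inferInstance with h | h
    · exfalso
      have := Nat.card_le_card_of_injective _ ((MonoidHom.ker_eq_bot_iff _).1 h)
      rw [card_HS, Nat.card_eq_fintype_card, Fintype.card_units_int] at this
      omega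
    · exact fun g => MonoidHom.mem_ker.1 (show g ∈ (Equiv.Perm.sign.comp φ).ker from h ▸ Subgroup.mem_top g)
  refine ⟨⟨φ, hinj, hsign, ?_⟩⟩
  let A₀ : Subgroup (Equiv.Perm (Fin 100)) := autF ⊓ alternatingGroup (Fin 100)
  have hle : φ.range ≤ A₀ := by
    rintro _ ⟨g, rfl⟩
    refine ⟨fun i k => ?_, Equiv.Perm.mem_alternatingGroup.2 (hsign g)⟩
    have hT : ∀ i k, adjF i k = true ↔ HSGraph.graph.Adj (T i) (T k) := fun i k => by
      rw [adjF_eq, ← HSAut.adj_iff]
      exact j.map_rel_iff.symm
    rw [Bool.eq_iff_iff, hT, hT]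
    simp only [φ, MonoidHom.coe_mk, OneHom.coe_mk, Equiv.trans_apply, Equiv.apply_symm_apply]
    exact (HSGraph.toAut (E g)).map_rel_iff
  obtain ⟨τ, hτ, -, -, hτs⟩ := of_autB (N := Data.oddPerm) (sw := Data.oddSwaps) (by decide +kernel)
  have hlt : 2 * Nat.card A₀ ≤ 88704000 := by
    rw [← card_autF]
    let f : ↥A₀ × Bool → autF := fun x => ⟨x.1.1 * (if x.2 then τ else 1), mul_mem x.1.2.1 (by
      split_ifs
      · exact hτ
      · exact one_mem _)⟩
    have hτ1 : Equiv.Perm.sign τ = -1 := by
      rw [hτs, Odd.neg_one_pow (by decide +kernel)]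
    have hf : Function.Injective f := by
      rintro ⟨⟨a, ha⟩, b⟩ ⟨⟨a', ha'⟩, b'⟩ e
      have e : a * (if b then τ else 1) = a' * (if b' then τ else 1) := congrArg Subtype.val e
      have es := congrArg Equiv.Perm.sign e
      rw [map_mul, map_mul, Equiv.Perm.mem_alternatingGroup.1 ha.2, Equiv.Perm.mem_alternatingGroup.1 ha'.2] at es
      cases b <;> cases b' <;> simp [hτ1] at es e ⊢ <;> exact e
    have := Nat.card_le_card_of_injective f hf
    rw [Nat.card_prod, Nat.card_eq_fintype_card (α := Bool), Fintype.card_bool] at this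
    omega
  have heq : φ.range = A₀ := by
    refine Subgroup.eq_of_le_of_card_ge hle ?_
    rw [← Nat.card_congr (MonoidHom.ofInjective hinj).toEquiv, card_HS]
    omega
  intro σ hσ hs
  rw [heq]
  exact ⟨hσ, Equiv.Perm.mem_alternatingGroup.2 hs⟩

/-- Evaluation of a word in packed permutations. -/
def evW (ps : List ℕ) (w : List ℕ) (i : Fin 100) : Fin 100 := w.foldr (fun k x => app (ps.getD k 0) x) i

/-- Check the permutations. -/
def permsB (ps : List ℕ) (sws : List (List (ℕ × ℕ))) : Bool :=
  (List.range ps.length).all fun k => autB (ps.getD k 0) (sws.getD k []) && decide ((sws.getD k []).length % 2 = 0)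

theorem exists_elements (R : Real) {ps : List ℕ} {sws : List (List (ℕ × ℕ))} (h : permsB ps sws = true) :
    ∃ g : ℕ → Spor.HS, ∀ k < ps.length, ∀ i, R.φ (g k) i = app (ps.getD k 0) i := by
  have : ∀ k : ℕ, ∃ x : Spor.HS, k < ps.length → ∀ i, R.φ x i = app (ps.getD k 0) i := by
    intro k
    by_cases hk : k < ps.length
    · have hk' := List.all_eq_true.1 h k (List.mem_range.2 hk)
      simp only [Bool.and_eq_true, decide_eq_true_eq] at hk'
      obtain ⟨σ, hσ, ha, -, hs⟩ := of_autB hk'.1
      obtain ⟨x, rfl⟩ := R.mem σ hσ (by rw [hs, Even.neg_one_pow (Nat.even_iff.2 hk'.2)])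
      exact ⟨x, fun _ => ha⟩
    · exact ⟨1, fun h => absurd h hk⟩
  choose g hg using this
  exact ⟨g, hg⟩

/-- Two words are equal in the group. -/
def eqB (ps : List ℕ) (a b : List ℕ) : Bool :=
  a.all (fun k => decide (k < ps.length)) && b.all (fun k => decide (k < ps.length)) &&
    (List.finRange 100).all fun i => decide (evW ps a i = evW ps b i)

theorem map_evW (R : Real) {ps : List ℕ} {g : ℕ → Spor.HS}
    (hg : ∀ k < ps.length, ∀ i, R.φ (g k) i = app (ps.getD k 0) i) :
    ∀ w : List ℕ, (∀ k ∈ w, k < ps.length) → ∀ i, R.φ (W g w) i = evW ps w i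
  | [], _, i => by rw [W_nil, map_one]; rfl
  | a :: w, h, i => by
    rw [W_cons, map_mul, Equiv.Perm.mul_apply, map_evW R hg w (fun k hk => h k (List.mem_cons_of_mem _ hk)),
      hg a (h a (List.mem_cons_self ..))]
    rfl

theorem of_eqB (R : Real) {ps : List ℕ} {g : ℕ → Spor.HS}
    (hg : ∀ k < ps.length, ∀ i, R.φ (g k) i = app (ps.getD k 0) i) {a b : List ℕ} (h : eqB ps a b = true) :
    W g a = W g b := by
  simp only [eqB, Bool.and_eq_true, List.all_eq_true, decide_eq_true_eq] at h
  refine R.inj (Equiv.ext fun i => ?_)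
  rw [map_evW R hg a h.1.1, map_evW R hg b h.1.2, h.2 i (List.mem_finRange i)]

/-- The check of the rules, conjugations, and orbits. -/
def realB (C : Cert) (ps : List ℕ) (orbs : List (List ℕ × List (List ℕ))) : Bool :=
  decide (C.R.n ≤ ps.length) &&
  ((List.range C.R.n).all fun i => eqB ps (List.replicate C.R.p i) (C.R.pwWord i) &&
    (C.R.pwWord i).all (fun k => decide (i < k ∧ k < C.R.n)) &&
    ((List.range' (i + 1) (C.R.n - (i + 1))).all fun j => eqB ps [j, i] (i :: C.R.cjWord i j) &&
      (C.R.cjWord i j).all fun k => decide (i < k ∧ k < C.R.n))) &&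
  (C.fus.zipIdx.all fun qp => qp.1.1.all fun ab => eqB ps ((C.R.n + qp.2) :: ab.1) (ab.2 ++ [C.R.n + qp.2])) &&
  ((List.range C.R.n).all fun i =>
    let O := ((orbs.getD i ([], [])).2).map fun t => t.map (Fin.ofNat 100)
    let b := ((orbs.getD i ([], [])).1).map (Fin.ofNat 100)
    O.contains b &&
    ((List.range' (i + 1) (C.R.n - (i + 1))).all fun j =>
      O.all fun t => O.contains (t.map (app (ps.getD j 0)))) &&
    !(O.contains (b.map (app (ps.getD i 0)))))

theorem real_of_check (R : Real) {C : Cert} {ps : List ℕ} {sws : List (List (ℕ × ℕ))}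
    {orbs : List (List ℕ × List (List ℕ))} (hp : permsB ps sws = true) (h : realB C ps orbs = true) :
    ∃ g hh : ℕ → Spor.HS, C.Real g hh := by
  obtain ⟨g, hg⟩ := exists_elements R hp
  simp only [realB, Bool.and_eq_true, List.all_eq_true, decide_eq_true_eq, List.mem_range,
    List.mem_range'_1, Bool.not_eq_true'] at h
  obtain ⟨⟨⟨hn, hrules⟩, hfus⟩, horb⟩ := h
  refine ⟨g, fun q => g (C.R.n + q), ⟨?_, ?_, ?_, ?_, ?_⟩⟩
  · intro i hi
    rw [← W_replicate]
    exact of_eqB R hg (hrules i hi).1.1
  · intro i j hij hj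
    have := of_eqB R hg ((hrules i (hij.trans hj)).2 j ⟨hij, by omega⟩).1
    rwa [W_cons, W_cons, W_nil, mul_one, W_cons] at this
  · intro qp hqp ab hab
    have := of_eqB R hg (hfus qp hqp ab hab)
    rwa [W_cons, W_append, W_cons, W_nil, mul_one] at this
  · intro i hi
    refine ⟨fun k hk => ?_, fun j hij hj k hk => ?_⟩
    · exact (hrules i hi).1.2 k hk
    · exact ((hrules i hi).2 j ⟨hij, by omega⟩).2 k hk
  · intro i hi
    haveI := finite_HS
    obtain ⟨⟨hb, hcl⟩, hout⟩ := horb i hi
    refine not_mem_closure (fun x t => t.map (R.φ x))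
      (fun t => by simp) (fun x y t => by simp [List.map_map, map_mul, Function.comp_def])
      (((orbs.getD i ([], [])).2).map fun t => t.map (Fin.ofNat 100))
      (b := ((orbs.getD i ([], [])).1).map (Fin.ofNat 100)) (List.mem_of_elem_eq_true hb) ?_ ?_
    · rintro _ ⟨j, hj, rfl⟩ t ht
      have := hcl j ⟨hj.1, by have := hj.2; omega⟩ t ht
      rw [List.map_congr_left fun v _ => hg j (by have := hj.2; omega) v]
      exact List.mem_of_elem_eq_true this
    · rw [List.map_congr_left fun v _ => hg i (by omega) v]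
      intro hmem
      rw [List.contains_iff_mem.2 hmem] at hout
      exact Bool.noConfusion hout

end Cfsg.Agent.Lib.HSMult
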