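import Cfsg.Agent.Lib.HSMult.Model
import Cfsg.Agent.Lib.PcMult.Bounded
import Cfsg.Agent.Lib.CharTheory.DoubleCoverStem
import Cfsg.Agent.Lib.Transfer.SplitLifts

/-!
The multiplier of the Higman-Sims group has order two.
-/

set_option autoImplicit false
set_option maxRecDepth 100000
set_option maxHeartbeats 1000000

namespace Cfsg.Agent.Lib.HSMult

open Cfsg Cfsg.Agent.Lib.PcMult Cfsg.Agent.Transfer.SplitLifts

theorem checkTwo : checkM Data.CTwo (vecOps 4) 4 Data.resTwo Data.multTwo Data.torTwo 2 = true := by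
  decide +kernel

theorem checkThree : Data.CThree.check (vecOps 3) = true := by decide +kernel

theorem checkFive : Data.CFive.check (vecOps 5) = true := by decide +kernel

theorem permsTwo : permsB Data.permsTwo Data.swapsTwo = true := by decide +kernel
theorem permsThree : permsB Data.permsThree Data.swapsThree = true := by decide +kernel
theorem permsFive : permsB Data.permsFive Data.swapsFive = true := by decide +kernel

theorem realTwo : realB Data.CTwo Data.permsTwo Data.orbsTwo = true := by decide +kernel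
theorem realThree : realB Data.CThree Data.permsThree Data.orbsThree = true := by decide +kernel
theorem realFive : realB Data.CFive Data.permsFive Data.orbsFive = true := by decide +kernel

theorem factor {p k r : ℕ} (hp : p.Prime) (h : 44352000 = p ^ k * r) (hr : ¬ p ∣ r) :
    (Nat.card Spor.HS).factorization p = k := by
  rw [card_HS, h, Nat.factorization_mul (pow_ne_zero _ hp.ne_zero) (show r ≠ 0 from fun e => hr (by simp [e])),
    Finsupp.coe_add, Pi.add_apply, hp.factorization_pow, Finsupp.single_eq_same,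
    Nat.factorization_eq_zero_of_not_dvd hr, add_zero]

theorem factor_two : (Nat.card Spor.HS).factorization 2 = 9 :=
  factor Nat.prime_two (r := 86625) (by norm_num) (by norm_num)

theorem factor_three : (Nat.card Spor.HS).factorization 3 = 2 :=
  factor Nat.prime_three (r := 4928000) (by norm_num) (by norm_num)

theorem factor_five : (Nat.card Spor.HS).factorization 5 = 3 :=
  factor Nat.prime_five (r := 354816) (by norm_num) (by norm_num)

theorem prime_sq_dvd {p : ℕ} (hp : p.Prime) (h : p ^ 2 ∣ Nat.card Spor.HS) : p = 2 ∨ p = 3 ∨ p = 5 := by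
  have hd : p ∣ 2 ^ 9 * 3 ^ 2 * 5 ^ 3 * 7 * 11 :=
    (dvd_pow_self p two_ne_zero).trans (by rw [card_HS] at h; norm_num; exact h)
  rw [card_HS] at h
  have e : ∀ q k : ℕ, q.Prime → p ∣ q ^ k → p = q := fun q k hq hh =>
    (Nat.prime_dvd_prime_iff_eq hp hq).1 (hp.dvd_of_dvd_pow hh)
  rcases (Nat.Prime.dvd_mul hp).1 hd with hd | hd
  · rcases (Nat.Prime.dvd_mul hp).1 hd with hd | hd
    · rcases (Nat.Prime.dvd_mul hp).1 hd with hd | hd
      · rcases (Nat.Prime.dvd_mul hp).1 hd with hd | hd
        · exact Or.inl (e 2 9 Nat.prime_two hd)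
        · exact Or.inr (Or.inl (e 3 2 Nat.prime_three hd))
      · exact Or.inr (Or.inr (e 5 3 Nat.prime_five hd))
    · obtain rfl := (Nat.prime_dvd_prime_iff_eq hp (by norm_num)).1 hd
      norm_num at h
  · obtain rfl := (Nat.prime_dvd_prime_iff_eq hp (by norm_num)).1 hd
    norm_num at h

theorem split_odd {p : ℕ} [Fact p.Prime] {C : Cert} (hp : C.R.p = p)
    (hC : C.check (vecOps p) = true) {g h : ℕ → Spor.HS} (hR : C.Real g h)
    (hN : (Nat.card Spor.HS).factorization p = C.R.n) {Γ : Type} [Group Γ] [Finite Γ] (σ : Γ →* Spor.HS)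
    (hc : σ.ker ≤ Subgroup.center Γ) (hσ : Function.Surjective σ) (hex : ∀ z, σ z = 1 → z ^ p = 1)
    (P : Sylow p Γ) : Nat.card ↥(⁅(P : Subgroup Γ), (P : Subgroup Γ)⁆ ⊓ σ.ker) ≤ 1 := by
  haveI := finite_HS
  subst hp
  rw [PcMult.split (O := vecOps C.R.p) Fact.out hc hσ hex
    (fun K _ hK τ => ⟨_, vecOps_valid hK τ⟩) hC hR hN rfl P, Subgroup.card_bot]

/-- The fifty transpositions. -/
def invList : List (Fin 100 × Fin 100) :=
  Data.invSwaps.map fun ab => (Fin.ofNat 100 ab.1, Fin.ofNat 100 ab.2)

theorem apart_all : ∀ i : Fin invList.length, ∀ j : Fin invList.length, i < j →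
    invList[i].1 ≠ invList[j].1 ∧ invList[i].1 ≠ invList[j].2 ∧
      invList[i].2 ≠ invList[j].1 ∧ invList[i].2 ≠ invList[j].2 := by decide +kernel

theorem pairwise_apart : invList.Pairwise Cfsg.Agent.CharTheory.DoubleCover.Apart :=
  List.pairwise_iff_getElem.2 fun i j hi hj hij => apart_all ⟨i, hi⟩ ⟨j, hj⟩ hij

theorem not_four_dvd {Γ : Type} [Group Γ] [Finite Γ] (σ : Γ →* Spor.HS) (hc : σ.ker ≤ Subgroup.center Γ)
    (hsur : Function.Surjective σ) (hd : σ.ker ≤ commutator Γ) : ¬ 2 ^ 2 ∣ Nat.card σ.ker := by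
  haveI := finite_HS
  obtain ⟨R⟩ := exists_real
  obtain ⟨g2, h2, r2⟩ := real_of_check R permsTwo realTwo
  exact not_pow_dvd_ker (G := Spor.HS) (p := 2) (k := 2) (d := 2) (by norm_num)
        (fun Γ' _ _ σ' hc' hs' he' P => bounded (C := Data.CTwo) (O := vecOps 4) (m := 4) (d := 2) (p := 2)
          (by norm_num) (by norm_num) Nat.prime_two hc' hs' he' (fun K _ hK τ => ⟨_, vecOps_valid hK τ⟩)
          checkTwo r2 factor_two rfl P) σ hc hsur hd

theorem prime_eq_two {Γ : Type} [Group Γ] [Finite Γ] (σ : Γ →* Spor.HS) (hc : σ.ker ≤ Subgroup.center Γ)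
    (hsur : Function.Surjective σ) (hd : σ.ker ≤ commutator Γ) :
    ∀ p : ℕ, p.Prime → p ∣ Nat.card σ.ker → p = 2 := by
  haveI := finite_HS
  obtain ⟨R⟩ := exists_real
  obtain ⟨g3, h3, r3⟩ := real_of_check R permsThree realThree
  obtain ⟨g5, h5, r5⟩ := real_of_check R permsFive realFive
  intro p hp hpd
  haveI := Fact.mk hp
  by_contra hp2
  by_cases hpG : p ^ 2 ∣ Nat.card Spor.HS
  swap
  · exact Suzuki.Multiplier.no_prime_in_kernel σ hc hd default (cyclic_criterion hc hsur hpG default) hpd
  rcases prime_sq_dvd hp hpG with rfl | rfl | rfl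
  · exact hp2 rfl
  · exact not_pow_dvd_ker (G := Spor.HS) (p := 3) (k := 1) (d := 1) (by norm_num)
      (fun Γ' _ _ σ' hc' hs' he' P => split_odd (p := 3) (C := Data.CThree) rfl checkThree r3 factor_three σ' hc' hs'
        (fun z hz => by simpa using he' z hz) P) σ hc hsur hd (by rwa [pow_one])
  · exact not_pow_dvd_ker (G := Spor.HS) (p := 5) (k := 1) (d := 1) (by norm_num)
      (fun Γ' _ _ σ' hc' hs' he' P => split_odd (p := 5) (C := Data.CFive) rfl checkFive r5 factor_five σ' hc' hs'
        (fun z hz => by simpa using he' z hz) P) σ hc hsur hd (by rwa [pow_one])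

theorem invList_ne : ∀ a ∈ invList, a.1 ≠ a.2 := fun _ ha =>
  of_decide_eq_true (List.all_eq_true.1 (show (invList.all fun a => decide (a.1 ≠ a.2)) = true by decide +kernel) _ ha)

theorem invList_odd : Odd (invList.length.choose 2) := by
  rw [show invList.length = 50 by decide +kernel]
  norm_num [Nat.choose_two_right]

theorem invSwaps_even : Even Data.invSwaps.length := by
  rw [show Data.invSwaps.length = 50 by decide +kernel]
  norm_num

theorem invPerm_ok : autB Data.invPerm Data.invSwaps = true := by decide +kernel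

theorem invList_prod : ∀ i, (invList.map fun ab => Equiv.swap ab.1 ab.2).prod i = app Data.invPerm i := by
  decide +kernel

theorem mult_two : Cfsg.HasCyclicSchurMultiplier ↥Spor.HS 2 := by
  classical
  haveI := finite_HS
  obtain ⟨R⟩ := exists_real
  refine ⟨?_, ?_⟩
  · obtain ⟨τ, hτ, ha, hsw, hs⟩ := of_autB invPerm_ok
    obtain ⟨x, hx⟩ := R.mem τ hτ (by rw [hs, Even.neg_one_pow invSwaps_even])
    obtain ⟨Γ, i1, i2, σ, hσ, hcard⟩ := Cfsg.Agent.CharTheory.DoubleCover.exists_stem perfect_HS R.φ R.inj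
      R.sign x invList invList_ne
      pairwise_apart invList_odd
      (Equiv.ext fun i => by rw [hx, ha, invList_prod])
    haveI : IsCyclic σ.ker := isCyclic_of_prime_card (p := 2) hcard
    exact ⟨Γ, i1, i2, σ, hσ, ⟨(zmodCyclicMulEquiv (G := σ.ker) inferInstance).symm.trans
      (hcard ▸ MulEquiv.refl _)⟩⟩
  · intro Γ _ _ σ hs
    obtain ⟨hsur, hc, hd⟩ := hs
    have h4 := not_four_dvd σ hc hsur hd
    have hodd := prime_eq_two σ hc hsur hd
    have hcard : Nat.card σ.ker ∣ 2 := by
      rw [Nat.dvd_iff_prime_pow_dvd_dvd]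
      intro p k hp hpk
      rcases k with _ | k
      · simp
      obtain rfl := hodd p hp ((dvd_pow_self p (by omega)).trans hpk)
      rcases k with _ | k
      · simp
      · exact absurd ((pow_dvd_pow 2 (by omega)).trans hpk) h4
    haveI : IsCyclic σ.ker := by
      rcases (Nat.dvd_prime Nat.prime_two).1 hcard with h | h
      · haveI := (Nat.card_eq_one_iff_unique.1 h).1
        exact isCyclic_of_subsingleton
      · exact isCyclic_of_prime_card (p := 2) h
    let e := zmodCyclicMulEquiv (G := σ.ker) inferInstance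
    let f : Multiplicative (ZMod 2) →* Multiplicative (ZMod (Nat.card σ.ker)) :=
      (ZMod.castHom hcard (ZMod (Nat.card σ.ker))).toAddMonoidHom.toMultiplicative
    exact ⟨e.toMonoidHom.comp f, e.surjective.comp (ZMod.castHom_surjective hcard)⟩

end Cfsg.Agent.Lib.HSMult
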